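import Cfsg.Agent.Lib.Spor.Cos.Y522.Conj
import Cfsg.Agent.Lib.Spor.Cos.Y432.Kill
import Cfsg.Prelude.Def_Spor_M

/-!
The spider relation implies the relations of the end nodes.
-/

set_option autoImplicit false
set_option maxRecDepth 100000
set_option maxHeartbeats 1000000

open Cfsg.Spor

namespace Cfsg.Agent.Spor.Cos.Bim

/-- The sixteen letters. -/
abbrev T : Type := Cfsg.Spor.Bimonster.Gen

/-- The spider relator. -/
def spider : FreeGroup T := (Bimonster.a * Bimonster.b1 * Bimonster.c1 * Bimonster.a * Bimonster.b2 *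
  Bimonster.c2 * Bimonster.a * Bimonster.b3 * Bimonster.c3) ^ 10

/-- The group with the spider relation alone. -/
abbrev G : Type := PresentedGroup (coxRelators Bimonster.edges ∪ {r | r ∈ [spider]})

/-- The letter of a number. -/
def letter (s : ℕ) : T := [.a, .b1, .c1, .d1, .e1, .f1, .b2, .c2, .d2, .e2, .f2, .b3, .c3, .d3, .e3, .f3].getD s .a

/-- The number of a letter. -/
def num : T → ℕ
  | .a => 0
  | .b1 => 1
  | .c1 => 2
  | .d1 => 3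
  | .e1 => 4
  | .f1 => 5
  | .b2 => 6
  | .c2 => 7
  | .d2 => 8
  | .e2 => 9
  | .f2 => 10
  | .b3 => 11
  | .c3 => 12
  | .d3 => 13
  | .e3 => 14
  | .f3 => 15

/-- The generators by number. -/
def g (s : ℕ) : G := PresentedGroup.of (letter s)

theorem letter_num : ∀ x : T, letter (num x) = x := by intro x; cases x <;> rfl

theorem node_mem (x : T) : x ∈ coxNodes Bimonster.edges := by cases x <;> decide

theorem pair_one (x y : ℕ) : (g x * g y) ^ coxLabel Bimonster.edges (letter x) (letter y) = 1 := by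
  have : PresentedGroup.mk (coxRelators Bimonster.edges ∪ {r | r ∈ [spider]})
      ((FreeGroup.of (letter x) * FreeGroup.of (letter y)) ^ coxLabel Bimonster.edges (letter x) (letter y)) = 1 :=
    PresentedGroup.one_of_mem (Or.inl ⟨_, node_mem _, _, node_mem _, rfl⟩)
  rwa [map_pow, map_mul] at this

theorem g_sq (s : ℕ) : g s * g s = 1 := by
  have h := pair_one s s
  rwa [show coxLabel Bimonster.edges (letter s) (letter s) = 1 by simp [coxLabel], pow_one] at h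

theorem comm {x y : ℕ} (h : coxLabel Bimonster.edges (letter x) (letter y) = 2) : g x * g y = g y * g x := by
  have e := pair_one x y
  rw [h, pow_two] at e
  calc g x * g y = g x * g y * (g y * g x * (g x * g y)) := by
        rw [mul_assoc (g y), ← mul_assoc (g x) (g x), g_sq, one_mul, g_sq, mul_one]
    _ = g y * g x := by
        rw [show g y * g x * (g x * g y) = 1 by rw [mul_assoc (g y), ← mul_assoc (g x) (g x), g_sq, one_mul, g_sq],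
          mul_one]
        exact (mul_eq_one_iff_eq_inv.1 e).trans (by
          rw [mul_inv_rev, inv_eq_of_mul_eq_one_left (g_sq x), inv_eq_of_mul_eq_one_left (g_sq y)])

theorem spider_one : ev g [0, 1, 2, 0, 6, 7, 0, 11, 12, 0, 1, 2, 0, 6, 7, 0, 11, 12, 0, 1, 2, 0, 6, 7, 0, 11, 12, 0, 1, 2, 0, 6, 7, 0, 11, 12, 0, 1, 2, 0, 6, 7, 0, 11, 12, 0, 1, 2, 0, 6, 7, 0, 11, 12, 0, 1, 2, 0, 6, 7, 0, 11, 12, 0, 1, 2, 0, 6, 7, 0, 11, 12, 0, 1, 2, 0, 6, 7, 0, 11, 12, 0, 1, 2, 0, 6, 7, 0, 11, 12] = 1 := by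
  have e : letters num spider = [0, 1, 2, 0, 6, 7, 0, 11, 12, 0, 1, 2, 0, 6, 7, 0, 11, 12, 0, 1, 2, 0, 6, 7, 0, 11, 12, 0, 1, 2, 0, 6, 7, 0, 11, 12, 0, 1, 2, 0, 6, 7, 0, 11, 12, 0, 1, 2, 0, 6, 7, 0, 11, 12, 0, 1, 2, 0, 6, 7, 0, 11, 12, 0, 1, 2, 0, 6, 7, 0, 11, 12, 0, 1, 2, 0, 6, 7, 0, 11, 12, 0, 1, 2, 0, 6, 7, 0, 11, 12] := by decide +kernel
  rw [← e, ← map_ev (PresentedGroup.mk _) g num (fun a => congrArg PresentedGroup.of (letter_num a).symm) (fun a => g_sq _)]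
  exact PresentedGroup.one_of_mem (Or.inr (List.mem_singleton.2 rfl))

theorem turn_arms {H : Type*} [Group H] {a b1 c1 b2 c2 b3 c3 : H} (ha : a * a = 1) (hb1 : b1 * b1 = 1)
    (hb2 : b2 * b2 = 1) (hb3 : b3 * b3 = 1) (hc1 : c1 * c1 = 1) (hc2 : c2 * c2 = 1) (hc3 : c3 * c3 = 1)
    (a1 : Commute a c1) (a2 : Commute a c2) (a3 : Commute a c3) (p12 : Commute c1 b2) (p13 : Commute c1 b3)
    (p23 : Commute c2 b3) (p21 : Commute c2 b1) (p31 : Commute c3 b1) (p32 : Commute c3 b2) (q12 : Commute c1 c2)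
    (q13 : Commute c1 c3) (q23 : Commute c2 c3) {n : ℕ}
    (h : (a * b1 * c1 * a * b2 * c2 * a * b3 * c3) ^ n = 1) :
    (a * b3 * c3 * a * b2 * c2 * a * b1 * c1) ^ n = 1 := by
  have hX : a * b1 * c1 * a * b2 * c2 * a * b3 * c3 = a * b1 * a * b2 * a * b3 * (c1 * c2 * c3) := by
    simp only [mul_assoc]
    rw [a1.symm.left_comm, p12.left_comm, a2.symm.left_comm, p23.left_comm, a1.symm.left_comm, p13.left_comm]
  have hY : a * b3 * c3 * a * b2 * c2 * a * b1 * c1 = a * b3 * a * b2 * a * b1 * (c1 * c2 * c3) := by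
    simp only [mul_assoc]
    rw [a3.symm.left_comm, p32.left_comm, a2.symm.left_comm, p21.left_comm, a3.symm.left_comm, p31.left_comm,
      ← mul_assoc c3 c2 c1, ← q23.eq, mul_assoc c2 c3 c1, ← q13.eq, q12.symm.left_comm]
  set C := c1 * c2 * c3 with hC
  have hCC : C * C = 1 := by
    have e : C = c3 * c2 * c1 := by rw [hC, q12.eq, mul_assoc, q13.eq, ← mul_assoc, q23.eq]
    calc C * C = c1 * c2 * c3 * (c3 * c2 * c1) := by conv_lhs => arg 2; rw [e]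
      _ = 1 := by simp [mul_assoc, ← mul_assoc c3 c3, ← mul_assoc c2 c2, hc1, hc2, hc3]
  have hCa : Commute a C := (a1.mul_right a2).mul_right a3
  have key : a * b3 * a * b2 * a * b1 * C = (a * C) * (a * b1 * a * b2 * a * b3 * C)⁻¹ * (a * C)⁻¹ := by
    simp only [mul_inv_rev, inv_eq_of_mul_eq_one_left ha, inv_eq_of_mul_eq_one_left hb1,
      inv_eq_of_mul_eq_one_left hb2, inv_eq_of_mul_eq_one_left hb3, inv_eq_of_mul_eq_one_left hCC, mul_assoc]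
    rw [← mul_assoc C C, hCC, one_mul, ← hCa.eq, ← mul_assoc a a, ha, one_mul]
  rw [hY, key, conj_pow, inv_pow, ← hX, h]
  simp

/-- The maps of the numbers of the letters, one for each order of the three arms. -/
def maps : List (List ℕ × List ℕ) := [([0, 1, 2, 3, 4, 5, 6, 7, 11, 12], [0, 1, 2, 3, 4, 6, 7, 8, 11, 12]),
  ([0, 1, 2, 3, 4, 5, 11, 12, 6, 7], [0, 1, 2, 3, 4, 11, 12, 13, 6, 7]),
  ([0, 6, 7, 8, 9, 10, 1, 2, 11, 12], [0, 6, 7, 8, 9, 1, 2, 3, 11, 12]),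
  ([0, 6, 7, 8, 9, 10, 11, 12, 1, 2], [0, 6, 7, 8, 9, 11, 12, 13, 1, 2]),
  ([0, 11, 12, 13, 14, 15, 1, 2, 6, 7], [0, 11, 12, 13, 14, 1, 2, 3, 6, 7]),
  ([0, 11, 12, 13, 14, 15, 6, 7, 1, 2], [0, 11, 12, 13, 14, 6, 7, 8, 1, 2])]

/-- A word that is a power of a product of two letters, with the exponent of the pair. -/
def isPair (w : List ℕ) : Bool :=
  (List.range 16).any fun x => (List.range 16).any fun y =>
    w == (List.replicate (coxLabel Bimonster.edges (letter x) (letter y)) [x, y]).flatten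

/-- The six spider words. -/
def spiders : List (List ℕ) := [[0, 1, 2, 0, 6, 7, 0, 11, 12, 0, 1, 2, 0, 6, 7, 0, 11, 12, 0, 1, 2, 0, 6, 7, 0, 11, 12, 0, 1, 2, 0, 6, 7, 0, 11, 12, 0, 1, 2, 0, 6, 7, 0, 11, 12, 0, 1, 2, 0, 6, 7, 0, 11, 12, 0, 1, 2, 0, 6, 7, 0, 11, 12, 0, 1, 2, 0, 6, 7, 0, 11, 12, 0, 1, 2, 0, 6, 7, 0, 11, 12, 0, 1, 2, 0, 6, 7, 0, 11, 12], [0, 1, 2, 0, 11, 12, 0, 6, 7, 0, 1, 2, 0, 11, 12, 0, 6, 7, 0, 1, 2, 0, 11, 12, 0, 6, 7, 0, 1, 2, 0, 11, 12, 0, 6, 7, 0, 1, 2, 0, 11, 12, 0, 6, 7, 0, 1, 2, 0, 11, 12, 0, 6, 7, 0, 1, 2, 0, 11, 12, 0, 6, 7, 0, 1, 2, 0, 11, 12, 0, 6, 7, 0, 1, 2, 0, 11, 12, 0, 6, 7, 0, 1, 2, 0, 11, 12, 0, 6, 7], [0, 6, 7, 0, 1, 2, 0, 11, 12, 0, 6, 7, 0, 1, 2, 0, 11, 12, 0, 6, 7, 0, 1, 2, 0, 11, 12, 0, 6, 7, 0, 1, 2, 0, 11, 12, 0, 6, 7, 0, 1, 2, 0, 11, 12, 0, 6, 7, 0, 1, 2, 0, 11, 12, 0, 6, 7, 0, 1, 2, 0, 11, 12, 0, 6, 7, 0, 1, 2, 0,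 11, 12, 0, 6, 7, 0, 1, 2, 0, 11, 12, 0, 6, 7, 0, 1, 2, 0, 11, 12], [0, 6, 7, 0, 11, 12, 0, 1, 2, 0, 6, 7, 0, 11, 12, 0, 1, 2, 0, 6, 7, 0, 11, 12, 0, 1, 2, 0, 6, 7, 0, 11, 12, 0, 1, 2, 0, 6, 7, 0, 11, 12, 0, 1, 2, 0, 6, 7, 0, 11, 12, 0, 1, 2, 0, 6, 7, 0, 11, 12, 0, 1, 2, 0, 6, 7, 0, 11, 12, 0, 1, 2, 0, 6, 7, 0, 11, 12, 0, 1, 2, 0, 6, 7, 0, 11, 12, 0, 1, 2], [0, 11, 12, 0, 1, 2, 0, 6, 7, 0, 11, 12, 0, 1, 2, 0, 6, 7, 0, 11, 12, 0, 1, 2, 0, 6, 7, 0, 11, 12, 0, 1, 2, 0, 6, 7, 0, 11, 12, 0, 1, 2, 0, 6, 7, 0, 11, 12, 0, 1, 2, 0, 6, 7, 0, 11, 12, 0, 1, 2, 0, 6, 7, 0, 11, 12, 0, 1, 2, 0, 6, 7, 0, 11, 12, 0, 1, 2, 0, 6, 7, 0, 11, 12, 0, 1, 2, 0, 6, 7], [0, 11, 12, 0, 6, 7, 0, 1, 2, 0, 11, 12, 0, 6, 7, 0, 1, 2, 0, 11, 12, 0, 6, 7, 0, 1, 2, 0, 11, 12, 0, 6, 7, 0, 1, 2, 0, 11, 12, 0, 6, 7, 0, 1, 2, 0, 11, 12, 0, 6, 7, 0, 1, 2, 0, 11, 12, 0, 6, 7, 0, 1, 2, 0, 11, 12, 0, 6,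 7, 0, 1, 2, 0, 11, 12, 0, 6, 7, 0, 1, 2, 0, 11, 12, 0, 6, 7, 0, 1, 2]]

theorem spiders_one : ∀ w ∈ spiders, ev g w = 1 := by
  have h1 := spider_one
  have h2 : ev g [0, 11, 12, 0, 6, 7, 0, 1, 2, 0, 11, 12, 0, 6, 7, 0, 1, 2, 0, 11, 12, 0, 6, 7, 0, 1, 2, 0, 11, 12, 0, 6, 7, 0, 1, 2, 0, 11, 12, 0, 6, 7, 0, 1, 2, 0, 11, 12, 0, 6, 7, 0, 1, 2, 0, 11, 12, 0, 6, 7, 0, 1, 2, 0, 11, 12, 0, 6, 7, 0, 1, 2, 0, 11, 12, 0, 6, 7, 0, 1, 2, 0, 11, 12, 0, 6, 7, 0, 1, 2] = 1 := by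
    have e := h1
    rw [show ([0, 1, 2, 0, 6, 7, 0, 11, 12, 0, 1, 2, 0, 6, 7, 0, 11, 12, 0, 1, 2, 0, 6, 7, 0, 11, 12, 0, 1, 2, 0, 6, 7, 0, 11, 12, 0, 1, 2, 0, 6, 7, 0, 11, 12, 0, 1, 2, 0, 6, 7, 0, 11, 12, 0, 1, 2, 0, 6, 7, 0, 11, 12, 0, 1, 2, 0, 6, 7, 0, 11, 12, 0, 1, 2, 0, 6, 7, 0, 11, 12, 0, 1, 2, 0, 6, 7, 0, 11, 12] : List ℕ) = (List.replicate 10 [0, 1, 2, 0, 6, 7, 0, 11, 12]).flatten from rfl, ev_power] at e
    rw [show ([0, 11, 12, 0, 6, 7, 0, 1, 2, 0, 11, 12, 0, 6, 7, 0, 1, 2, 0, 11, 12, 0, 6, 7, 0, 1, 2, 0, 11, 12, 0, 6, 7, 0, 1, 2, 0, 11, 12, 0, 6, 7, 0, 1, 2, 0, 11, 12, 0, 6, 7, 0, 1, 2, 0, 11, 12, 0, 6, 7, 0, 1, 2, 0, 11, 12, 0, 6, 7, 0, 1, 2, 0, 11, 12, 0, 6, 7, 0, 1, 2, 0, 11, 12, 0, 6, 7, 0, 1, 2] : List ℕ) = (List.replicate 10 [0, 11, 12, 0, 6, 7, 0, 1, 2]).flatten from rfl, ev_power]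
    simp only [ev, mul_one, ← mul_assoc] at e ⊢
    exact turn_arms (g_sq _) (g_sq _) (g_sq _) (g_sq _) (g_sq _) (g_sq _) (g_sq _) (comm (by decide)) (comm (by decide))
      (comm (by decide)) (comm (by decide)) (comm (by decide)) (comm (by decide)) (comm (by decide)) (comm (by decide))
      (comm (by decide)) (comm (by decide)) (comm (by decide)) (comm (by decide)) e
  intro w hw
  refine ev_derived (n := 16) (fun s _ => g_sq s) (base := [[0, 1, 2, 0, 6, 7, 0, 11, 12, 0, 1, 2, 0, 6, 7, 0, 11, 12, 0, 1, 2, 0, 6, 7, 0, 11, 12, 0, 1, 2, 0, 6, 7, 0, 11, 12, 0, 1, 2, 0, 6, 7, 0, 11, 12, 0, 1, 2, 0, 6, 7, 0, 11, 12, 0, 1, 2, 0, 6, 7, 0, 11, 12, 0, 1, 2, 0, 6, 7, 0, 11, 12, 0, 1, 2, 0, 6, 7, 0, 11, 12, 0, 1, 2, 0, 6, 7, 0, 11, 12], [0, 11, 12, 0, 6, 7, 0, 1, 2, 0, 11, 12, 0, 6, 7, 0, 1, 2, 0, 11, 12, 0, 6, 7, 0, 1, 2, 0, 11, 12, 0, 6, 7, 0, 1, 2, 0, 11, 12, 0, 6,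 7, 0, 1, 2, 0, 11, 12, 0, 6, 7, 0, 1, 2, 0, 11, 12, 0, 6, 7, 0, 1, 2, 0, 11, 12, 0, 6, 7, 0, 1, 2, 0, 11, 12, 0, 6, 7, 0, 1, 2, 0, 11, 12, 0, 6, 7, 0, 1, 2]]) ?_
    (List.all_eq_true.1 (show spiders.all (derivedOk 16 [[0, 1, 2, 0, 6, 7, 0, 11, 12, 0, 1, 2, 0, 6, 7, 0, 11, 12, 0, 1, 2, 0, 6, 7, 0, 11, 12, 0, 1, 2, 0, 6, 7, 0, 11, 12, 0, 1, 2, 0, 6, 7, 0, 11, 12, 0, 1, 2, 0, 6, 7, 0, 11, 12, 0, 1, 2, 0, 6, 7, 0, 11, 12, 0, 1, 2, 0, 6, 7, 0, 11, 12, 0, 1, 2, 0, 6, 7, 0, 11, 12, 0, 1, 2, 0, 6, 7, 0, 11, 12], [0, 11, 12, 0, 6, 7, 0, 1, 2, 0, 11, 12, 0, 6, 7, 0, 1, 2, 0, 11, 12, 0, 6, 7, 0, 1, 2, 0, 11, 12, 0, 6, 7, 0, 1, 2, 0, 11, 12, 0, 6, 7, 0, 1, 2, 0, 11, 12, 0, 6, 7, 0, 1, 2, 0, 11, 12, 0, 6, 7, 0, 1, 2, 0, 11, 12, 0, 6, 7, 0, 1, 2, 0, 11, 12, 0, 6, 7, 0, 1, 2, 0, 11, 12, 0, 6, 7, 0, 1, 2]]) = true by decide +kernel) w hw)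
  intro r hr
  simp only [List.mem_cons, List.not_mem_nil, or_false] at hr
  rcases hr with rfl | rfl
  · exact h1
  · exact h2

/-- Relations go to relations. -/
def mapOk (words : List (List ℕ)) (m : List ℕ) : Bool :=
  words.all fun w => isPair (w.map fun i => m.getD i 0) || spiders.contains (w.map fun i => m.getD i 0)

theorem ev_mapped {words : List (List ℕ)} {m : List ℕ} (h : mapOk words m = true) :
    ∀ w ∈ words, ev g (w.map fun i => m.getD i 0) = 1 := by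
  intro w hw
  have e := List.all_eq_true.1 h w hw
  simp only [Bool.or_eq_true, isPair, List.any_eq_true, beq_iff_eq, List.contains_iff_mem] at e
  rcases e with ⟨x, -, y, -, e⟩ | e
  · rw [e, ev_power]
    simpa [ev] using pair_one x y
  · exact spiders_one _ e

theorem maps_ok : maps.all (fun m => mapOk Y522.words m.1 && mapOk Y432.words m.2 &&
    decide (Y522.e8Word.map (fun i => m.1.getD i 0) = Y432.zWord.map fun i => m.2.getD i 0)) = true := by decide +kernel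

theorem end_one {m : List ℕ × List ℕ} (hm : m ∈ maps) : ev g (Y522.endWord.map fun i => m.1.getD i 0) = 1 := by
  have h := List.all_eq_true.1 maps_ok m hm
  simp only [Bool.and_eq_true, decide_eq_true_eq] at h
  obtain ⟨⟨h1, h2⟩, h3⟩ := h
  -- the two maps
  let σ (m' : List ℕ) (s : ℕ) : G := if s < 10 then g (m'.getD s 0) else 1
  have hσ : ∀ (m' : List ℕ) (w : List ℕ), (∀ s ∈ w, s < 10) → ev (σ m') w = ev g (w.map fun i => m'.getD i 0) := by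
    intro m' w
    induction w with
    | nil => intro _; rfl
    | cons s w ih =>
      intro hl
      rw [List.map_cons, ev, ev, ih fun t ht => hl t (List.mem_cons_of_mem _ ht),
        show σ m' s = g (m'.getD s 0) from if_pos (hl s (List.mem_cons_self ..))]
  have hsq : ∀ (m' : List ℕ) s, σ m' s * σ m' s = 1 := fun m' s => by
    show (if s < 10 then g (m'.getD s 0) else 1) * (if s < 10 then g (m'.getD s 0) else 1) = 1
    split <;> simp [g_sq]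
  have l5 : Act.lettersOk 10 Y522.words = true := by decide +kernel
  have l4 : Act.lettersOk 10 Y432.words = true := by decide +kernel
  obtain ⟨φ, hφ⟩ := Y522.pres.exists_hom (σ m.1) (hsq _)
    (fun w hw => (hσ _ w (Act.lt_of_lettersOk l5 hw)).trans (ev_mapped h1 w hw))
    (fun s hs => if_neg (not_lt.2 hs))
  obtain ⟨ψ, hψ⟩ := Y432.pres.exists_hom (σ m.2) (hsq _)
    (fun w hw => (hσ _ w (Act.lt_of_lettersOk l4 hw)).trans (ev_mapped h2 w hw))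
    (fun s hs => if_neg (not_lt.2 hs))
  have hz : φ (ev Y522.g Y522.e8Word) = 1 := by
    have e := congrArg ψ Y432.z_one
    rw [map_one, ev_map ψ] at e
    rw [ev_map φ, show (fun s => φ (Y522.g s)) = σ m.1 from funext hφ, hσ _ _ (by decide +kernel), h3,
      ← hσ _ _ (show ∀ s ∈ Y432.zWord, s < 10 by decide +kernel), ← show (fun s => ψ (Y432.g s)) = σ m.2 from funext hψ]
    exact e
  have he := Y522.map_end φ hz
  rwa [ev_map φ, show (fun s => φ (Y522.g s)) = σ m.1 from funext hφ, hσ _ _ (by decide +kernel)] at he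

theorem extra_ok : Bimonster.extra.all (fun r => decide (letters num r = letters num spider) ||
    derivedOk 16 (maps.map fun m => Y522.endWord.map fun i => m.1.getD i 0) (letters num r)) = true := by
  decide +kernel

theorem extra_one {r : FreeGroup T} (hr : r ∈ Bimonster.extra) :
    PresentedGroup.mk (coxRelators Bimonster.edges ∪ {r | r ∈ [spider]}) r = 1 := by
  rw [map_ev (PresentedGroup.mk _) g num (fun a => congrArg PresentedGroup.of (letter_num a).symm) (fun a => g_sq _)]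
  have h := List.all_eq_true.1 extra_ok r hr
  simp only [Bool.or_eq_true, decide_eq_true_eq] at h
  rcases h with h | h
  · rw [h, ← map_ev (PresentedGroup.mk _) g num (fun a => congrArg PresentedGroup.of (letter_num a).symm) (fun a => g_sq _)]
    exact PresentedGroup.one_of_mem (Or.inr (List.mem_singleton.2 rfl))
  · refine ev_derived (fun s _ => g_sq s) ?_ h
    intro w hw
    obtain ⟨m, hm, rfl⟩ := List.mem_map.1 hw
    exact end_one hm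

end Cfsg.Agent.Spor.Cos.Bim
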